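import Groth.Agent.PnAutLib.Surj
import Groth.Agent.GenSeesawLib.TwistBC

/-! Points of the line under base change, and linear maps fixing a point of degree at least three. -/

set_option autoImplicit false
set_option backward.isDefEq.respectTransparency false
set_option linter.style.haveILetI false

universe u

open CategoryTheory AlgebraicGeometry MvPolynomial HomogeneousLocalization
open Groth.Agent

noncomputable section

namespace Groth.Agent.P1FixLib

variable {n : ℕ}

theorem point_bcMap (k K : Type u) [CommRing k] [CommRing K] [Algebra k K] {A : Type u} [CommRing A]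
    [Algebra k A] [Algebra K A] [IsScalarTower k K A] (v : Fin (n + 1) → A) (c : Fin (n + 1)) (hc : IsUnit (v c)) :
    ProjMap.point (R := K) v c hc ≫ GenSeesawLib.bcMap n k K = ProjMap.point (R := k) v c hc := by
  let f := GenSeesawLib.coordMap n k K
  have hu : IsUnit (aeval v (f (X c))) := by
    rw [GenSeesawLib.coordMap_X, aeval_X]; exact hc
  rw [← PnAutLib.point_chartG v c hc (f.map_mem (ProjMap.X_mem c)) hu]
  refine (Category.assoc _ _ _).trans ?_
  refine (congrArg (Spec.map (CommRingCat.ofHom (ProjMap.evalAway v (f (X c)) hu)) ≫ ·)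
    (Proj.awayι_comp_map f (GenSeesawLib.irrelevant_le n k K) one_pos (X c) (ProjMap.X_mem c))).trans ?_
  rw [← Category.assoc, ← Spec.map_comp, ← CommRingCat.ofHom_comp]
  have hcomp : ∀ p, aeval v (f p) = aeval (R := k) v p := fun p => MvPolynomial.aeval_map_algebraMap K v p
  have h : (ProjMap.evalAway (R := K) v (f (X c)) hu).comp (Away.map f (X c)) =
      ProjMap.evalAway (R := k) v (X c) (by simpa using hc) := by
    refine ProjMap.ringHom_eq_evalAway (ProjMap.X_mem c) _ _ fun m p hp => ?_
    rw [RingHom.comp_apply, ← hcomp, ← hcomp]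
    have h3 := ProjMap.evalAway_mk (v := v) (f.map_mem (ProjMap.X_mem c)) hu m (f p) (f.map_mem hp)
    rw [show Away.map f (X c) (Away.mk _ (ProjMap.X_mem c) m p hp) =
      Away.mk _ (f.map_mem (ProjMap.X_mem c)) m (f p) (f.map_mem hp) from Away.map_mk f _ (ProjMap.X_mem c) m p hp]
    exact h3
  rw [h]
  rfl

/-- If a point in the c-th chart is fixed by a linear map, the image has invertible c-th coordinate. -/
theorem isUnit_mulVec_of_fixed {K : Type u} [CommRing K] (M : GL (Fin (n + 1)) K) {A : Type u} [CommRing A] [Algebra K A]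
    (v : Fin (n + 1) → A) (c : Fin (n + 1)) (hc : IsUnit (v c))
    (h : ProjMap.point (R := K) v c hc ≫ PnAutLib.Lin M = ProjMap.point (R := K) v c hc) :
    IsUnit (Matrix.mulVec ((M : Matrix (Fin (n + 1)) (Fin (n + 1)) K).map (algebraMap K A)) v c) := by
  let f := PnAutLib.linGr (n := n) (M : Matrix (Fin (n + 1)) (Fin (n + 1)) K)
  have h1 := congrArg (fun m : Spec (CommRingCat.of A) ⟶ CohB1.ProjSpace n K =>
    m ⁻¹ᵁ Proj.basicOpen (CohB1.polyGrading n K) (X c)) h
  simp only [Scheme.Hom.comp_preimage] at h1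
  rw [show PnAutLib.Lin M ⁻¹ᵁ Proj.basicOpen (CohB1.polyGrading n K) (X c) =
      Proj.basicOpen (CohB1.polyGrading n K) (f (X c)) from Proj.map_preimage_basicOpen f _ _] at h1
  have h2 : PrimeSpectrum.basicOpen (aeval v (f (X c))) = PrimeSpectrum.basicOpen (aeval v (X c : MvPolynomial (Fin (n + 1)) K)) :=
    (ProjMap.point_preimage_basicOpen v c hc one_pos (f.map_mem (ProjMap.X_mem c))).symm.trans
      (h1.trans (ProjMap.point_preimage_basicOpen v c hc one_pos (ProjMap.X_mem c)))
  rw [aeval_X] at h2
  obtain ⟨k, hk⟩ := (PrimeSpectrum.basicOpen_le_basicOpen_iff _ _).1 h2.ge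
  have h3 : IsUnit (aeval v (f (X c))) := isUnit_of_dvd_unit (Ideal.mem_span_singleton.1 hk) (hc.pow k)
  rw [← PnAutLib.aeval_linX]
  exact h3

/-- A linear map fixing a point with coordinates independent up to degree two is the identity. -/
theorem Lin_eq_id {K A : Type u} [CommRing K] [CommRing A] [Algebra K A] (M : GL (Fin 2) K)
    (v : Fin 2 → A) (c d : Fin 2) (hcd : c ≠ d) (hvc : v c = 1)
    (hli : ∀ p q r : K, algebraMap K A p + algebraMap K A q * v d + algebraMap K A r * (v d * v d) = 0 →
      p = 0 ∧ q = 0 ∧ r = 0)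
    (h : ProjMap.point (R := K) v c (hvc ▸ isUnit_one) ≫ PnAutLib.Lin (n := 1) M =
      ProjMap.point (R := K) v c (hvc ▸ isUnit_one)) :
    PnAutLib.Lin (n := 1) M = 𝟙 _ := by
  have hu := isUnit_mulVec_of_fixed M v c (hvc ▸ isUnit_one) h
  rw [PnAutLib.point_Lin M v c (hvc ▸ isUnit_one) _ rfl c hu] at h
  obtain ⟨s, hs⟩ := PnAutLib.exists_smul_of_point_eq _ _ h.symm
  let N : Matrix (Fin 2) (Fin 2) K := M
  have huniv : (Finset.univ : Finset (Fin 2)) = {c, d} := by
    fin_cases c <;> fin_cases d <;> first | exact absurd rfl hcd | decide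
  have hmv : ∀ i, Matrix.mulVec (N.map (algebraMap K A)) v i =
      algebraMap K A (N i c) + algebraMap K A (N i d) * v d := fun i => by
    rw [Matrix.mulVec, dotProduct]
    show ∑ j ∈ (Finset.univ : Finset (Fin 2)), _ = _
    rw [huniv, Finset.sum_pair hcd, hvc, mul_one]
    rfl
  have e1 : algebraMap K A (N c c) + algebraMap K A (N c d) * v d = s := by
    rw [← hmv, hs c, hvc, mul_one]
  have e2 : algebraMap K A (N d c) + algebraMap K A (N d d) * v d = s * v d := by
    rw [← hmv, hs d]
  obtain ⟨z1, z2, z3⟩ := hli (N d c) (N d d - N c c) (-N c d) (by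
    rw [map_sub, map_neg]
    linear_combination e2 - (v d) * e1)
  have z3' : N c d = 0 := neg_eq_zero.1 z3
  have z2' : N d d = N c c := sub_eq_zero.1 z2
  let Ni : Matrix (Fin 2) (Fin 2) K := (M⁻¹ : GL (Fin 2) K)
  have hinv : N c c * Ni c c = 1 := by
    have h0 : N * Ni = 1 := by rw [← Units.val_mul, mul_inv_cancel, Units.val_one]
    have h1 := congrFun (congrFun h0 c) c
    rw [Matrix.one_apply_eq, Matrix.mul_apply, huniv, Finset.sum_pair hcd, z3', zero_mul, add_zero] at h1
    exact h1
  let r : Kˣ := ⟨N c c, Ni c c, hinv, by rw [mul_comm]; exact hinv⟩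
  have hM : Units.map (Matrix.scalar (Fin 2) : K →+* Matrix (Fin 2) (Fin 2) K).toMonoidHom r = M := by
    refine Units.ext (Matrix.ext fun i j => ?_)
    show Matrix.scalar (Fin 2) (N c c) i j = N i j
    have hi : i = c ∨ i = d := by have := Finset.mem_univ i; rw [huniv] at this; simpa using this
    have hj : j = c ∨ j = d := by have := Finset.mem_univ j; rw [huniv] at this; simpa using this
    rcases hi with rfl | rfl <;> rcases hj with rfl | rfl <;>
      simp [Matrix.scalar, Matrix.diagonal_apply, z1, z2', z3', hcd, hcd.symm]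
  rw [← hM]
  exact PnAutLib.Lin_scalar r

end Groth.Agent.P1FixLib
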